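import Groth.Agent.PunctArt.Basic
import Groth.Agent.LocH.Transform
import Groth.Agent.LocH.Artinian
import Groth.Agent.S0356

/-!
`H^i(U, M~)` is artinian for `i > 0`, `M` finite and `U` the complement of a closed point.
-/

set_option autoImplicit false
set_option backward.isDefEq.respectTransparency false
set_option backward.isDefEq.respectTransparency.types false
set_option linter.style.haveILetI false

universe u

open CategoryTheory CategoryTheory.Limits AlgebraicGeometry TopologicalSpace Opposite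
open Groth.Agent.LocH (Sec secOf secRes)

noncomputable section

namespace Groth.Agent.PunctArt

variable {A : Type u} [CommRing A] [IsNoetherianRing A] (J : Ideal A)

local notation "UJ" => LocCoh.puncturedOpen A J

theorem subsingleton_injective (E : ModuleCat.{u} A) [Injective E] (q : ℕ) :
    Subsingleton (HU' UJ (q + 1) E) := by
  obtain ⟨e⟩ := S0356.result A J E (q + 1) (Nat.le_add_left 1 q)
  haveI : Subsingleton (LocCoh.H J (q + 1 + 1) E) :=
    LocH.subsingleton_of_injective (I := J) (ModuleCat.of A E) (q + 1)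
  exact e.toEquiv.subsingleton

theorem isPowerTorsion_Qk (M : ModuleCat.{u} A) (x : HU' UJ 0 M) :
    ∃ n : ℕ, ∀ a ∈ J ^ n, a • x ∈ LinearMap.range (psi UJ M) := by
  obtain ⟨s, rfl⟩ := (sec0 UJ M).surjective x
  obtain ⟨n, hn⟩ := LocH.isPowerTorsion_coker (M := M) J (Submodule.Quotient.mk s)
  refine ⟨n, fun a ha => ?_⟩
  obtain ⟨m, hm⟩ := (Submodule.Quotient.mk_eq_zero _).1 ((Submodule.Quotient.mk_smul _ _ _).trans (hn a ha))
  exact ⟨m, (congrArg (sec0 UJ M) hm).trans (sec0_smul a s)⟩

theorem mem_torsion_of_psi_eq_zero (M : ModuleCat.{u} A) {m : M} (hm : psi UJ M m = 0) :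
    m ∈ DRing.torsionSub J M :=
  (LocH.mem_torsionSub_iff_forall_pow J m).2
    ((LocH.secOf_openCompl_eq_zero_iff J m).1 ((psi_eq_zero_iff m).1 hm))

theorem isPowerTorsion_HU' : ∀ (q : ℕ) (M : ModuleCat.{u} A) (x : HU' UJ (q + 1) M),
    ∃ n : ℕ, ∀ a ∈ J ^ n, a • x = 0
  | q, M, x => by
    have hS := LocH.injSES_shortExact M
    haveI : Injective (LocH.injSES M).X₂ := inferInstanceAs (Injective (Injective.under M))
    haveI := subsingleton_injective J (LocH.injSES M).X₂ q
    obtain ⟨y, hy⟩ : ∃ y, delta (U := UJ) hS q y = x :=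
      (mapH_f_eq_zero_iff hS q x).1 (Subsingleton.elim _ _)
    subst hy
    match q, y with
    | 0, y =>
      obtain ⟨n, hn⟩ := isPowerTorsion_Qk J _ y
      refine ⟨n, fun a ha => ?_⟩
      obtain ⟨c, hc⟩ := hn a ha
      refine (map_smul (delta hS 0) a y).symm.trans ?_
      rw [← hc]
      exact delta_psi hS c
    | q + 1, y =>
      obtain ⟨n, hn⟩ := isPowerTorsion_HU' q _ y
      exact ⟨n, fun a ha => (map_smul (delta hS (q + 1)) a y).symm.trans ((congrArg _ (hn a ha)).trans (map_zero _))⟩

theorem id_RR_eq_zero (T : ModuleCat.{u} A) (k : ℕ) (hk : ∀ a ∈ J ^ k, ∀ t : T, a • t = 0) :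
    𝟙 ((RR UJ).obj T) = 0 := by
  apply (Scheme.Modules.toPresheaf _).map_injective
  refine NatTrans.ext (funext fun W => ConcreteCategory.hom_ext _ _ fun s => ?_)
  let W' : (Spec (CommRingCat.of A)).Opens := Scheme.Hom.opensFunctor (Scheme.Opens.ι UJ) |>.obj W.unop
  have hW : W' ≤ EGA4.openCompl A J := Scheme.Opens.ι_image_le UJ W.unop
  have h1 : (show Sec A T W' from s) ∈ DRing.torsionSub J (Sec A T W') := by
    refine ⟨k, fun a ha => ?_⟩
    rw [← mapS_smul, show a • 𝟙 T = (0 : A) • 𝟙 T from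
      ModuleCat.hom_ext (LinearMap.ext fun t => (hk a ha t).trans (zero_smul A t).symm), mapS_smul, zero_smul]
  exact (congrArg (fun φ => φ s) ((LocH.secSheaf A T).obj.map_id (op W'))).symm.trans
    (LocH.res_eq_zero_of_torsion J (le_refl W') hW h1)

theorem subsingleton_torsion (T : ModuleCat.{u} A) (k : ℕ) (hk : ∀ a ∈ J ^ k, ∀ t : T, a • t = 0) (q : ℕ) :
    Subsingleton (HU' UJ q T) := by
  refine subsingleton_of_forall_eq 0 fun x => ?_
  have h0 : (RR UJ).map (0 : T ⟶ T) = 𝟙 _ := by rw [id_RR_eq_zero J T k hk, Functor.map_zero]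
  calc x = CohFinite.hhMap A (𝟙 ((RR UJ).obj T)) q x := (CohFinite.hhMap_id A _ q x).symm
    _ = mapH (0 : T ⟶ T) q x := by rw [mapH, h0]
    _ = 0 := mapH_zero q x

section Maximal

variable (m : Ideal A) [m.IsMaximal]

theorem isArtinian_ker_psi (M : ModuleCat.{u} A) [Module.Finite A M] :
    IsArtinian A (LinearMap.ker (psi (LocCoh.puncturedOpen A m) M)) := by
  obtain ⟨k, hk⟩ := InjHull.exists_pow_smul_eq_zero (m := m) (M := ↥(DRing.torsionSub m M))
    (fun x => x.2.imp fun n hn a ha => Subtype.ext (hn a ha))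
  have h : IsFiniteLength A ↥(DRing.torsionSub m M) :=
    InjHull.isFiniteLength_of_pow_smul_eq_zero m k _ inferInstance hk
  haveI : IsArtinian A ↥(DRing.torsionSub m M) := (isFiniteLength_iff_isNoetherian_isArtinian.1 h).2
  exact isArtinian_of_injective
    (Submodule.inclusion fun x hx => mem_torsion_of_psi_eq_zero m M hx) (Submodule.inclusion_injective _)

/-- The quotient by the torsion. -/
def torSES (M : ModuleCat.{u} A) : ShortComplex (ModuleCat.{u} A) :=
  ShortComplex.mk (X₁ := ModuleCat.of A (DRing.torsionSub m M)) (X₂ := M)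
    (X₃ := ModuleCat.of A (M ⧸ DRing.torsionSub m M))
    (ModuleCat.ofHom (DRing.torsionSub m M).subtype) (ModuleCat.ofHom (DRing.torsionSub m M).mkQ) (by
      ext x
      exact (Submodule.Quotient.mk_eq_zero _).2 x.2)

theorem torSES_shortExact (M : ModuleCat.{u} A) : (torSES m M).ShortExact :=
  { exact := by
      rw [ShortComplex.moduleCat_exact_iff]
      intro y hy
      exact ⟨⟨y, (Submodule.Quotient.mk_eq_zero _).1 hy⟩, rfl⟩
    mono_f := (ModuleCat.mono_iff_injective _).2 Subtype.val_injective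
    epi_g := (ModuleCat.epi_iff_surjective _).2 (Submodule.mkQ_surjective _) }

theorem bijective_mapH_torSES (M : ModuleCat.{u} A) [Module.Finite A M] (j : ℕ) :
    Function.Bijective (mapH (U := LocCoh.puncturedOpen A m) (torSES m M).g j) := by
  obtain ⟨k, hk⟩ := InjHull.exists_pow_smul_eq_zero (m := m) (M := ↥(DRing.torsionSub m M))
    (fun x => x.2.imp fun n hn a ha => Subtype.ext (hn a ha))
  haveI := fun i => subsingleton_torsion m (torSES m M).X₁ k (fun a ha t => hk a ha t) i
  refine ⟨(injective_iff_map_eq_zero _).2 fun x hx => ?_, fun x => ?_⟩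
  · obtain ⟨y, rfl⟩ := (mapH_g_eq_zero_iff (torSES_shortExact m M) j x).1 hx
    rw [Subsingleton.elim y 0, map_zero]
  · exact (delta_eq_zero_iff (torSES_shortExact m M) j x).1 (Subsingleton.elim _ _)

theorem exists_regular_mem (M : ModuleCat.{u} A) [Module.Finite A M] :
    ∃ r ∈ m, IsSMulRegular (M ⧸ DRing.torsionSub m M) r ∧ DRing.torsionSub m (M ⧸ DRing.torsionSub m M) = ⊥ := by
  let T := DRing.torsionSub m M
  have hN : DRing.torsionSub (m.map (algebraMap A A)) (M ⧸ T) = ⊥ := by
    rw [Algebra.algebraMap_self, Ideal.map_id]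
    refine eq_bot_iff.2 fun z hz => ?_
    obtain ⟨x, rfl⟩ := Submodule.Quotient.mk_surjective T z
    obtain ⟨n, hn⟩ := hz
    exact (Submodule.Quotient.mk_eq_zero T).2 (PowTors.mem_torsionSub_of_pow_smul_mem (IsNoetherian.noetherian m) n
      fun a ha => (Submodule.Quotient.mk_eq_zero T).1 (hn a ha))
  obtain ⟨r, hr, hreg⟩ := S11610.result A A m (M ⧸ T) hN
  rw [Algebra.algebraMap_self, Ideal.map_id] at hN
  exact ⟨r, hr, hreg, hN⟩

/-- Multiplication by `r` and its cokernel. -/
def smulSES (N : ModuleCat.{u} A) (r : A) : ShortComplex (ModuleCat.{u} A) :=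
  ShortComplex.mk (X₁ := N) (X₂ := N) (X₃ := ModuleCat.of A (QuotSMulTop r N)) (r • 𝟙 N)
    (ModuleCat.ofHom (Submodule.mkQ _)) (by
      ext x
      exact (Submodule.Quotient.mk_eq_zero _).2 (Submodule.smul_mem_pointwise_smul x r _ Submodule.mem_top))

theorem smulSES_shortExact (N : ModuleCat.{u} A) {r : A} (hreg : IsSMulRegular N r) : (smulSES N r).ShortExact :=
  { exact := by
      rw [ShortComplex.moduleCat_exact_iff]
      intro y hy
      obtain ⟨z, -, hz⟩ := (Submodule.Quotient.mk_eq_zero _).1 hy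
      exact ⟨z, hz⟩
    mono_f := (ModuleCat.mono_iff_injective _).2 hreg
    epi_g := (ModuleCat.epi_iff_surjective _).2 (Submodule.mkQ_surjective _) }

theorem isArtinian_Qk_of_regular (N : ModuleCat.{u} A) [Module.Finite A N] {r : A} (hr : r ∈ m)
    (hreg : IsSMulRegular N r) (hN : DRing.torsionSub m N = ⊥) :
    IsArtinian A (Qk (LocCoh.puncturedOpen A m) N) := by
  let U := LocCoh.puncturedOpen A m
  let S := smulSES N r
  let K := S.X₃
  have hS : S.ShortExact := smulSES_shortExact N hreg
  haveI : Module.Finite A K := inferInstanceAs (Module.Finite A (QuotSMulTop r N))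
  refine LocH.isArtinian_of_smul_torsion (r := r) (fun z => ?_) ?_
  · obtain ⟨x, rfl⟩ := Submodule.Quotient.mk_surjective _ z
    obtain ⟨n, hn⟩ := isPowerTorsion_Qk m N x
    exact ⟨n, by rw [← Submodule.Quotient.mk_smul, Submodule.Quotient.mk_eq_zero]
                 exact hn _ (Ideal.pow_mem_pow hr n)⟩
  · have hinj : Function.Injective (psi U N) := (injective_iff_map_eq_zero _).2 fun x hx =>
      (Submodule.eq_bot_iff _).1 hN x (mem_torsion_of_psi_eq_zero m N hx)
    have hregH : ∀ x : HU' U 0 N, r • x = 0 → x = 0 := fun x hx => mapH_f_injective hS (by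
      change mapH (r • 𝟙 N) 0 x = mapH (r • 𝟙 N) 0 0
      rw [mapH_smul, map_zero, hx])
    let L : Submodule A (HU' U 0 N) := (LinearMap.range (psi U N)).comap (LinearMap.lsmul A _ r)
    let eN := LinearEquiv.ofInjective (psi U N) hinj
    let φ : L →ₗ[A] ↥(LinearMap.ker (psi U K)) :=
      (S.g.hom ∘ₗ eN.symm.toLinearMap ∘ₗ ((LinearMap.lsmul A _ r).restrict (p := L)
        (q := LinearMap.range (psi U N)) fun x hx => hx)).codRestrict _ fun x => by
        refine LinearMap.mem_ker.2 ((psi_natural S.g (eN.symm ⟨r • (x : HU' U 0 N), x.2⟩)).symm.trans ?_)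
        have h := congrArg Subtype.val (eN.apply_symm_apply ⟨r • (x : HU' U 0 N), x.2⟩)
        refine (congrArg (mapH S.g 0) h).trans ?_
        refine (congrArg (mapH S.g 0) (mapH_smul r 0 (x : HU' U 0 N)).symm).trans ?_
        refine (mapH_comp (r • 𝟙 N) S.g 0 _).symm.trans ?_
        rw [show (r • 𝟙 N) ≫ S.g = 0 from S.zero]
        exact mapH_zero 0 _
    let κ : L →ₗ[A] ↥(LinearMap.ker (LinearMap.lsmul A (Qk U N) r)) :=
      ((LinearMap.range (psi U N)).mkQ ∘ₗ L.subtype).codRestrict _ fun x => by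
        rw [LinearMap.mem_ker, LinearMap.lsmul_apply, LinearMap.comp_apply, ← map_smul]
        exact (Submodule.Quotient.mk_eq_zero _).2 x.2
    have hle : LinearMap.ker φ ≤ LinearMap.ker κ := fun x hx => by
      have h1 := congrArg Subtype.val (LinearMap.mem_ker.1 hx)
      obtain ⟨n, -, hn⟩ := (Submodule.Quotient.mk_eq_zero _).1 h1
      have h2 := congrArg Subtype.val (eN.apply_symm_apply ⟨r • (x : HU' U 0 N), x.2⟩)
      change psi U N (eN.symm _) = r • (x : HU' U 0 N) at h2
      refine LinearMap.mem_ker.2 (Subtype.ext ((Submodule.Quotient.mk_eq_zero _).2 ⟨n, ?_⟩))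
      refine eq_of_sub_eq_zero (hregH _ ?_)
      rw [smul_sub, ← map_smul, sub_eq_zero]
      exact (congrArg (psi U N) hn).trans h2
    haveI := isArtinian_ker_psi m K
    haveI : IsArtinian A (L ⧸ LinearMap.ker φ) :=
      isArtinian_of_injective ((LinearMap.ker φ).liftQ φ le_rfl)
        (LinearMap.ker_eq_bot.1 (Submodule.ker_liftQ_eq_bot' _ _ rfl))
    refine isArtinian_of_surjective _ ((LinearMap.ker φ).liftQ κ hle) fun z => ?_
    obtain ⟨x, hx⟩ := Submodule.Quotient.mk_surjective _ (z : Qk U N)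
    refine ⟨Submodule.Quotient.mk ⟨x, ?_⟩, Subtype.ext hx⟩
    have hz := z.2
    rw [LinearMap.mem_ker, LinearMap.lsmul_apply, ← hx, ← Submodule.Quotient.mk_smul,
      Submodule.Quotient.mk_eq_zero] at hz
    exact hz

theorem isArtinian_Qk (M : ModuleCat.{u} A) [Module.Finite A M] :
    IsArtinian A (Qk (LocCoh.puncturedOpen A m) M) := by
  let U := LocCoh.puncturedOpen A m
  let S₁ := torSES m M
  have hS₁ : S₁.ShortExact := torSES_shortExact m M
  have hbij := bijective_mapH_torSES m M
  let N := S₁.X₃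
  haveI : Module.Finite A N := inferInstanceAs (Module.Finite A (M ⧸ DRing.torsionSub m M))
  obtain ⟨r, hr, hreg, hN⟩ := exists_regular_mem m M
  haveI := isArtinian_Qk_of_regular m N hr hreg hN
  let ψ : Qk U M →ₗ[A] Qk U N := Submodule.mapQ _ _ (mapH S₁.g 0) (by
    rintro _ ⟨c, rfl⟩
    exact ⟨_, (psi_natural S₁.g c).symm⟩)
  refine isArtinian_of_injective ψ ((injective_iff_map_eq_zero _).2 fun z hz => ?_)
  obtain ⟨x, rfl⟩ := Submodule.Quotient.mk_surjective _ z
  obtain ⟨c', hc'⟩ := (Submodule.Quotient.mk_eq_zero _).1 hz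
  obtain ⟨c, rfl⟩ := (ModuleCat.epi_iff_surjective _).1 hS₁.epi_g c'
  rw [Submodule.Quotient.mk_eq_zero]
  exact ⟨c, (hbij 0).1 ((psi_natural S₁.g c).trans hc')⟩

theorem isArtinian_HU' : ∀ (q : ℕ) (M : ModuleCat.{u} A) [Module.Finite A M],
    IsArtinian A (HU' (LocCoh.puncturedOpen A m) (q + 1) M) := by
    intro q
    induction q using Nat.strong_induction_on with
    | _ q ih => ?_
    intro M _
    let U := LocCoh.puncturedOpen A m
    obtain ⟨r, hr, hreg, -⟩ := exists_regular_mem m M
    let N := (torSES m M).X₃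
    haveI : Module.Finite A N := inferInstanceAs (Module.Finite A (M ⧸ DRing.torsionSub m M))
    let S := smulSES N r
    have hS : S.ShortExact := smulSES_shortExact N hreg
    let K := S.X₃
    haveI : Module.Finite A K := inferInstanceAs (Module.Finite A (QuotSMulTop r N))
    have hA : IsArtinian A (HU' U (q + 1) N) := by
      refine LocH.isArtinian_of_smul_torsion (r := r) (fun x => ?_) ?_
      · obtain ⟨n, hn⟩ := isPowerTorsion_HU' m q N x
        exact ⟨n, hn _ (Ideal.pow_mem_pow hr n)⟩
      · let δ : HU' U q K →ₗ[A] ↥(LinearMap.ker (LinearMap.lsmul A (HU' U (q + 1) N) r)) :=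
          (delta (U := U) hS q).codRestrict _ fun y => by
            exact LinearMap.mem_ker.2 ((mapH_smul r (q + 1) (delta (U := U) hS q y : HU' U (q + 1) N)).symm.trans
              ((mapH_f_eq_zero_iff hS q _).2 ⟨y, rfl⟩))
        have hδ : Function.Surjective δ := fun x => by
          obtain ⟨y, hy⟩ := (mapH_f_eq_zero_iff hS q x.1).1 ((mapH_smul r (q + 1) x.1).trans x.2)
          exact ⟨y, Subtype.ext hy⟩
        rcases q with _ | q
        · have hker : LinearMap.range (psi U K) ≤ LinearMap.ker δ := by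
            rintro _ ⟨c, rfl⟩
            exact LinearMap.mem_ker.2 (Subtype.ext (delta_psi (U := U) hS c))
          haveI := isArtinian_Qk m K
          exact isArtinian_of_surjective _ ((LinearMap.range (psi U K)).liftQ δ hker) fun x => by
            obtain ⟨y, rfl⟩ := hδ x
            exact ⟨Submodule.Quotient.mk y, rfl⟩
        · haveI := ih q (Nat.lt_succ_self q) K
          exact isArtinian_of_surjective _ δ hδ
    exact isArtinian_of_linearEquiv (LinearEquiv.ofBijective _ (bijective_mapH_torSES m M (q + 1))).symm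

end Maximal

end Groth.Agent.PunctArt
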