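import Groth.Agent.CohFinite.Linear
import Groth.Agent.W7Cech.GlobSec
import Groth.Agent.PunctKill.Factor
import Groth.Agent.LocH.TildeTorsion
import Groth.Agent.QC.AffineSpec
import Groth.Agent.QC.Basic

/-!
Cohomology over an open subscheme of an affine scheme of the restrictions of `M~`, as linear functors of `M`.
-/

set_option autoImplicit false
set_option backward.isDefEq.respectTransparency false
set_option backward.isDefEq.respectTransparency.types false
set_option linter.style.haveILetI false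

universe u

open CategoryTheory CategoryTheory.Limits AlgebraicGeometry TopologicalSpace Opposite
open Groth.Agent.CohFinite (toAbMap hhMap hhδ shortExact_toAb δH_eq_zero_iff map_f_eq_zero_iff map_f_injective map_g_eq_zero_iff)
open Groth.Agent.LocH (Sec secOf secRes)

noncomputable section

namespace Groth.Agent.PunctArt

variable {A : Type u} [CommRing A] (U : (Spec (CommRingCat.of A)).Opens)

/-- `M ↦ M~|_U`. -/
abbrev RR : ModuleCat.{u} A ⥤ (↑U : Scheme.{u}).Modules :=
  tilde.functor (CommRingCat.of A) ⋙ Scheme.Modules.restrictFunctor U.ι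

/-- Exactness, over a bundled ring. -/
theorem preserves_tilde_restrict (R : CommRingCat.{u}) (V : (Spec R).Opens) :
    PreservesFiniteLimits (tilde.functor R ⋙ Scheme.Modules.restrictFunctor V.ι) ∧
      PreservesFiniteColimits (tilde.functor R ⋙ Scheme.Modules.restrictFunctor V.ι) ∧
      (tilde.functor R ⋙ Scheme.Modules.restrictFunctor V.ι).Additive :=
  ⟨comp_preservesFiniteLimits _ _, comp_preservesFiniteColimits _ _, inferInstance⟩

instance preservesFiniteLimits_RR : PreservesFiniteLimits (RR U) :=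
  (preserves_tilde_restrict (CommRingCat.of A) U).1

instance preservesFiniteColimits_RR : PreservesFiniteColimits (RR U) :=
  (preserves_tilde_restrict (CommRingCat.of A) U).2.1

instance additive_RR : (RR U).Additive :=
  (preserves_tilde_restrict (CommRingCat.of A) U).2.2

/-- The cohomology of `M~|_U`. -/
abbrev HU' (q : ℕ) (M : ModuleCat.{u} A) : Type u := Coh.HH (↑U : Scheme.{u}) ((RR U).obj M) q

variable {U} {M N : ModuleCat.{u} A}

/-- Functoriality. -/
def mapH (f : M ⟶ N) (q : ℕ) : HU' U q M →ₗ[A] HU' U q N := hhMap A ((RR U).map f) q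

theorem mapH_comp {P : ModuleCat.{u} A} (f : M ⟶ N) (g : N ⟶ P) (q : ℕ) (x : HU' U q M) :
    mapH (f ≫ g) q x = mapH g q (mapH f q x) := by
  rw [mapH, Functor.map_comp, CohFinite.hhMap_comp]
  rfl

theorem smulAb_RR (M : ModuleCat.{u} A) (r : A) :
    toAbMap ((RR U).map (r • 𝟙 M)) =
      Coh.smulAb ((RR U).obj M) (Coh.toGlobal ((↑U : Scheme.{u}) ↘ Spec (CommRingCat.of A)) r) := by
  refine (PunctKill.smulAb_restrict U.ι (tilde.map _) _ (PunctKill.smulAb_tilde (R := CommRingCat.of A) M r)).trans ?_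
  rfl

theorem mapH_smul (r : A) (q : ℕ) (x : HU' U q M) : mapH (r • 𝟙 M) q x = r • x := by
  change Sheaf.H.map (toAbMap ((RR U).map (r • 𝟙 M))) q x = _
  rw [smulAb_RR]
  rfl

theorem mapH_zero (q : ℕ) (x : HU' U q M) : mapH (0 : M ⟶ N) q x = 0 := by
  have h0 : ((0 : A) • 𝟙 N) = 0 := zero_smul A _
  rw [show (0 : M ⟶ N) = (0 : M ⟶ N) ≫ ((0 : A) • 𝟙 N) from zero_comp.symm, mapH_comp, mapH_smul, zero_smul]

variable (U)

/-- Sections over `U` are `H^0`. -/
def sec0 (M : ModuleCat.{u} A) : Sec A M U ≃+ HU' U 0 M :=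
  ((((tilde (R := CommRingCat.of A) M).presheaf.mapIso (eqToIso U.ι_image_top).op).addCommGroupIsoToAddEquiv :
    Γ(tilde (R := CommRingCat.of A) M, U) ≃+ Γ((RR U).obj M, ⊤))).trans
      (W7Cech.gsH0 A ((RR U).obj M))

variable {U}

/-- The map on sections. -/
abbrev mapS (f : M ⟶ N) (W : (Spec (CommRingCat.of A)).Opens) : Sec A M W →ₗ[A] Sec A N W :=
  ((modulesSpecToSheaf.map (tilde.map (R := CommRingCat.of A) f)).hom.app (op W)).hom

theorem mapS_secOf (f : M ⟶ N) (W : (Spec (CommRingCat.of A)).Opens) (m : M) :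
    mapS f W (secOf A M W m) = secOf A N W (f.hom m) :=
  congrArg (fun φ => φ.hom m) (tilde.toOpen_map_app (R := CommRingCat.of A) f W)

theorem sec0_natural (f : M ⟶ N) (s : Sec A M U) : sec0 U N (mapS f U s) = mapH f 0 (sec0 U M s) := by
  refine Eq.trans ?_ (W7Cech.gsH0_natural A ((RR U).map f) _)
  refine congrArg (W7Cech.gsH0 A ((RR U).obj N)) ?_
  exact (ConcreteCategory.congr_hom ((tilde.map (R := CommRingCat.of A) f).mapPresheaf.naturality (eqToIso U.ι_image_top).op.hom) s).symm

theorem mapS_smul (r : A) (W : (Spec (CommRingCat.of A)).Opens) (s : Sec A M W) :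
    mapS (r • 𝟙 M) W s = r • s := by
  refine Eq.trans (congrArg (fun φ => φ.hom.app (op W) s) (PunctKill.smulAb_tilde (R := CommRingCat.of A) M r)) ?_
  refine (Coh.smulAb_app _ _ (op W) s).trans ?_
  exact (Scheme.Modules.smul_Spec_def (M := tilde (R := CommRingCat.of A) M) (U := W) r s).symm

theorem sec0_smul (r : A) (s : Sec A M U) : sec0 U M (r • s) = r • sec0 U M s := by
  rw [← mapS_smul, sec0_natural, mapH_smul]

variable (U)

/-- The map `M → H^0(U, M~)`. -/
def psi (M : ModuleCat.{u} A) : M →ₗ[A] HU' U 0 M where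
  toFun m := sec0 U M (secOf A M U m)
  map_add' a b := by rw [map_add, map_add]
  map_smul' r a := by rw [map_smul, sec0_smul, RingHom.id_apply]

/-- Its cokernel. -/
abbrev Qk (M : ModuleCat.{u} A) : Type u := HU' U 0 M ⧸ LinearMap.range (psi U M)

variable {U}

theorem psi_natural (f : M ⟶ N) (m : M) : mapH f 0 (psi U M m) = psi U N (f.hom m) :=
  (sec0_natural f _).symm.trans (congrArg (sec0 U N) (mapS_secOf f U m))

theorem psi_eq_zero_iff (m : M) : psi U M m = 0 ↔ secOf A M U m = 0 :=
  (sec0 U M).map_eq_zero_iff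

section ShortExact

variable {S : ShortComplex (ModuleCat.{u} A)} (hS : S.ShortExact)

include hS in
theorem shortExact_RR : (S.map (RR U)).ShortExact := hS.map_of_exact _

/-- The connecting map. -/
def delta (q : ℕ) : HU' U q S.X₃ →ₗ[A] HU' U (q + 1) S.X₁ := hhδ A (shortExact_RR hS) q

theorem delta_eq_zero_iff (q : ℕ) (x : HU' U q S.X₃) : delta hS q x = 0 ↔ ∃ y, mapH S.g q y = x :=
  δH_eq_zero_iff (shortExact_toAb (shortExact_RR hS)) q x

theorem mapH_f_eq_zero_iff (q : ℕ) (x : HU' U (q + 1) S.X₁) :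
    mapH S.f (q + 1) x = 0 ↔ ∃ y, delta hS q y = x :=
  map_f_eq_zero_iff (shortExact_toAb (shortExact_RR hS)) q x

include hS in
theorem mapH_g_eq_zero_iff (q : ℕ) (x : HU' U q S.X₂) :
    mapH S.g q x = 0 ↔ ∃ y, mapH S.f q y = x :=
  map_g_eq_zero_iff (shortExact_toAb (shortExact_RR hS)) q x

include hS in
theorem mapH_f_injective : Function.Injective (mapH (U := U) S.f 0) :=
  map_f_injective (shortExact_toAb (shortExact_RR hS))

theorem delta_psi (c : S.X₃) : delta (U := U) hS 0 (psi U S.X₃ c) = 0 := by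
  obtain ⟨e, he⟩ := (ModuleCat.epi_iff_surjective _).1 hS.epi_g c
  exact (delta_eq_zero_iff hS 0 _).2 ⟨psi U S.X₂ e, by rw [psi_natural, he]⟩

end ShortExact

end Groth.Agent.PunctArt
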